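import Groth.Agent.TrivNilLib.Scheme

/-!
The coaction of an action of a diagonalisable group on an affine scheme.
-/

set_option autoImplicit false

noncomputable section

universe u

open CategoryTheory CategoryTheory.Limits MonoidalCategory CartesianMonoidalCategory AlgebraicGeometry CoactBr WithConv
open scoped MonObj TensorProduct

namespace Groth.Agent.FreeAct

attribute [local instance] CoactBr.braidedAlgSpecOf

set_option synthInstance.maxHeartbeats 400000 in
set_option maxHeartbeats 1000000 in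
/-- The coaction. -/
theorem exists_coaction {R : Type u} [CommRing R] {M : Type} [AddCommGroup M]
    {G X : Over (Spec (CommRingCat.of R))} [GrpObj G] (w : sp R (DA R M) ≅ G) [IsMonHom w.hom] [IsAffine X.left]
    (a : AlgGrp.Action G X) :
    ∃ (B : Type u) (_ : CommRing B) (_ : Algebra R B) (v : sp R B ≅ X) (ρ : B →ₐ[R] DA R M ⊗[R] B), IsAct ρ ∧
      (∀ (K : Type u) [CommRing K] [Algebra R K] (g : DA R M →ₐ[R] K) (x : B →ₐ[R] K),
        lift (pt g ≫ w.hom) (pt x ≫ v.hom) ≫ a.act = pt ((pr g x).comp ρ) ≫ v.hom) ∧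
      (ρ = Algebra.TensorProduct.includeRight → a.act = snd G X) := by
  obtain ⟨φ, hφ⟩ := Spec.map_surjective (X.left.isoSpec.inv ≫ X.hom)
  let B : Type u := Γ(X.left, ⊤)
  letI : Algebra R B := φ.hom.toAlgebra
  let v : sp R B ≅ X := Over.isoMk X.left.isoSpec.symm (by
    show X.left.isoSpec.inv ≫ X.hom = Spec.map (CommRingCat.ofHom φ.hom)
    rw [← hφ]
    rfl)
  let act'' : sp R (DA R M) ⊗ sp R B ⟶ sp R B :=
    lift (fst _ _ ≫ w.hom) (snd _ _ ≫ v.hom) ≫ a.act ≫ v.inv
  have hact : ∀ {T : Over (Spec (CommRingCat.of R))} (g : T ⟶ sp R (DA R M)) (x : T ⟶ sp R B),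
      lift g x ≫ act'' = lift (g ≫ w.hom) (x ≫ v.hom) ≫ a.act ≫ v.inv := fun g x => by
    simp [act'', comp_lift_assoc]
  have hmul : ∀ {T : Over (Spec (CommRingCat.of R))} (g g' : T ⟶ sp R (DA R M)) (x : T ⟶ sp R B),
      lift (g * g') x ≫ act'' = lift g (lift g' x ≫ act'') ≫ act'' := fun g g' x => by
    rw [hact, hact, hact, MonObj.mul_comp, ← Category.assoc (lift _ (x ≫ v.hom)) a.act, GrpShear.lift_mul_act]
    simp
  have hone : ∀ {T : Over (Spec (CommRingCat.of R))} (x : T ⟶ sp R B),
      lift (1 : T ⟶ sp R (DA R M)) x ≫ act'' = x := fun x => by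
    rw [hact, MonObj.one_comp, ← Category.assoc, GrpShear.lift_one_act, Category.assoc, v.hom_inv_id,
      Category.comp_id]
  let iL : DA R M →ₐ[R] DA R M ⊗[R] B := Algebra.TensorProduct.includeLeft
  let iR : B →ₐ[R] DA R M ⊗[R] B := Algebra.TensorProduct.includeRight
  let U : sp R (DA R M ⊗[R] B) ⟶ sp R (DA R M) ⊗ sp R B := lift (pt iL) (pt iR)
  obtain ⟨ρ, hρ⟩ : ∃ ρ : B →ₐ[R] DA R M ⊗[R] B, U ≫ act'' = pt ρ := DiagRep.exists_pt _
  have hpt : ∀ {K : Type u} [CommRing K] [Algebra R K] (g : DA R M →ₐ[R] K) (x : B →ₐ[R] K),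
      lift (pt g) (pt x) ≫ act'' = pt ((pr g x).comp ρ) := by
    intro K _ _ g x
    have e : pt (pr g x) ≫ U = lift (pt g) (pt x) := by
      simp only [U, iL, iR, comp_lift]
      rw [← pt_comp, ← pt_comp, pr_left, pr_right]
    rw [pt_comp, ← hρ, ← Category.assoc (pt _) U act'', e]
  have hA : IsAct ρ := by
    refine ⟨fun b => ?_, fun b => ?_⟩
    · let g₁ : DA R M →ₐ[R] DA R M ⊗[R] (DA R M ⊗[R] B) := Algebra.TensorProduct.includeLeft
      let j : DA R M ⊗[R] B →ₐ[R] DA R M ⊗[R] (DA R M ⊗[R] B) := Algebra.TensorProduct.includeRight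
      have h1 := hmul (pt (K := DA R M ⊗[R] (DA R M ⊗[R] B)) g₁) (pt (K := DA R M ⊗[R] (DA R M ⊗[R] B)) (j.comp iL))
        (pt (K := DA R M ⊗[R] (DA R M ⊗[R] B)) (j.comp iR))
      rw [pt_mul_pt, hpt, hpt, hpt] at h1
      have h2 := DFunLike.congr_fun (pt_injective h1) b
      rw [AlgHom.comp_apply, AlgHom.comp_apply] at h2
      have e1 : pr (K := DA R M ⊗[R] (DA R M ⊗[R] B)) (j.comp iL) (j.comp iR) = j :=
        Algebra.TensorProduct.ext (AlgHom.ext fun a => by simp [pr, iL]) (AlgHom.ext fun a => by simp [pr, iR])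
      rw [e1] at h2
      have eL : ∀ z, pr (K := DA R M ⊗[R] (DA R M ⊗[R] B)) g₁ (j.comp ρ) z =
          LinearMap.lTensor (DA R M) ρ.toLinearMap z := fun z => by
        induction z using TensorProduct.induction_on with
        | zero => simp
        | add x y hx hy => simp only [map_add, hx, hy]
        | tmul x y => simp [g₁, j]
      rw [← eL, ← pr_assoc]
      exact h2.symm
    · have h1 := hone (pt (AlgHom.id R B))
      rw [one_eq_pt, hpt] at h1
      have h2 := DFunLike.congr_fun (pt_injective h1) b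
      rw [AlgHom.comp_apply] at h2
      have e : ∀ z, Algebra.TensorProduct.lift ((Algebra.ofId R B).comp (Bialgebra.counitAlgHom R (DA R M)))
          (AlgHom.id R B) (fun _ _ => Commute.all _ _) z =
          TensorProduct.lid R B (LinearMap.rTensor B (CoalgebraStruct.counit (R := R)) z) := fun z => by
        induction z using TensorProduct.induction_on with
        | zero => simp
        | add x y hx hy => simp only [map_add, hx, hy]
        | tmul x y => simp [Algebra.smul_def]
      rw [← e]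
      exact h2
  refine ⟨B, inferInstance, inferInstance, v, ρ, hA, fun K _ _ g x => ?_, fun h3 => ?_⟩
  · rw [← hpt, hact, Category.assoc, Category.assoc, v.inv_hom_id, Category.comp_id]
  have hU : IsIso U := by
    have h := lift_pt_pt (Algebra.TensorProduct.includeLeft : DA R M →ₐ[R] DA R M ⊗[R] B)
      (Algebra.TensorProduct.includeRight : B →ₐ[R] DA R M ⊗[R] B)
    rw [Algebra.TensorProduct.lift_includeLeft_includeRight, pt_id] at h
    have hm := (Functor.Monoidal.μIso (algSpec (CommRingCat.of R)) (Opposite.op (CommAlgCat.of R (DA R M)))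
        (Opposite.op (CommAlgCat.of R B))).isIso_hom
    have hc : IsIso (U ≫ Functor.LaxMonoidal.μ (algSpec (CommRingCat.of R)) (Opposite.op (CommAlgCat.of R (DA R M)))
          (Opposite.op (CommAlgCat.of R B))) := by
      rw [h]
      exact IsIso.id _
    exact @IsIso.of_isIso_comp_right _ _ _ _ _ _ _ hm hc
  rw [← cancel_epi (MonoidalCategory.tensorIso w v).hom, ← cancel_epi U, ← cancel_mono v.inv]
  have h4 := hρ
  rw [h3] at h4
  have e3 : lift (fst (sp R (DA R M)) (sp R B) ≫ w.hom) (snd _ _ ≫ v.hom) =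
      (MonoidalCategory.tensorIso w v).hom := by ext <;> simp
  simp only [Category.assoc]
  rw [← e3]
  refine h4.trans ?_
  simp [U, iR]

end Groth.Agent.FreeAct
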