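import Groth.Agent.FibTrivLib.Algebra
import Groth.Agent.FibTrivLib.Coaction
import Groth.Agent.MultLiftLib.Eq
import Groth.Agent.PDLib.Fibre

/-!
Actions of groups of multiplicative type which are trivial on every fibre are trivial.
-/

set_option autoImplicit false

noncomputable section

universe u

open CategoryTheory CategoryTheory.Limits MonoidalCategory CartesianMonoidalCategory AlgebraicGeometry CoactBr WithConv
open scoped MonObj TensorProduct

namespace Groth.Agent.FibTriv

open Groth.Agent.FreeAct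

attribute [local instance] CoactBr.braidedAlgSpecOf

/-- The action is trivial on points lying over points of the base with values in fields. -/
def TrivField {S : Scheme.{u}} {G X : Over S} [GrpObj G] (a : AlgGrp.Action G X) : Prop :=
  ∀ (K : Type u) [Field K] (κ : Spec (CommRingCat.of K) ⟶ S) (Y : Over S) (g : Y ⟶ G) (x : Y ⟶ X)
    (q : Y.left ⟶ Spec (CommRingCat.of K)), q ≫ κ = Y.hom → lift g x ≫ a.act = x

theorem exists_smul_mem {R : Type u} [CommRing R] {X : Type u} [AddCommGroup X] [Module R X] (p : Ideal R) [p.IsPrime]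
    (x : X) (hx : (1 : p.ResidueField) ⊗ₜ[R] x = 0) : ∃ s ∉ p, s • x ∈ p • (⊤ : Submodule R X) := by
  let Q := X ⧸ (p • (⊤ : Submodule R X))
  have hQ : Module.IsTorsionBySet R Q (p : Set R) := by
    intro z a
    obtain ⟨z, rfl⟩ := Submodule.Quotient.mk_surjective _ z
    rw [← Submodule.Quotient.mk_smul, Submodule.Quotient.mk_eq_zero]
    exact Submodule.smul_mem_smul a.2 trivial
  obtain ⟨s, hs, hsx⟩ := PDLib.exists_smul_eq_zero_of_residueField p hQ (Submodule.Quotient.mk x) (by
    have := congrArg ((Submodule.mkQ (p • (⊤ : Submodule R X))).lTensor p.ResidueField) hx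
    rwa [LinearMap.lTensor_tmul, map_zero] at this)
  exact ⟨s, hs, by rwa [← Submodule.Quotient.mk_smul, Submodule.Quotient.mk_eq_zero] at hsx⟩

set_option synthInstance.maxHeartbeats 400000 in
set_option maxHeartbeats 1000000 in
/-- The affine split case. -/
theorem act_eq_snd_affine {R : Type u} [CommRing R] {M : Type} [AddCommGroup M]
    {G X : Over (Spec (CommRingCat.of R))} [GrpObj G] (w : sp R (DA R M) ≅ G) [IsMonHom w.hom] [IsAffine X.left]
    [LocallyOfFiniteType X.hom] (a : AlgGrp.Action G X) (h0 : TrivField a) : a.act = snd G X := by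
  classical
  obtain ⟨B, _, _, v, ρ, hA, hpt, hfin⟩ := exists_coaction w a
  haveI : Algebra.FiniteType R B := by
    haveI : IsIso v.hom.left := inferInstanceAs (IsIso ((Over.forget _).mapIso v).hom)
    have h : LocallyOfFiniteType (sp R B).hom := by
      rw [← Over.w v.hom]
      exact MorphismProperty.comp_mem _ _ _ inferInstance ‹LocallyOfFiniteType X.hom›
    have h' : LocallyOfFiniteType (Spec.map (CommRingCat.ofHom (algebraMap R B))) := h
    rw [HasRingHomProperty.Spec_iff (P := @LocallyOfFiniteType)] at h'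
    exact RingHom.finiteType_algebraMap.1 h'
  refine hfin (AlgHom.ext fun b => hA.eq_one_tmul_of_fibres (fun p hp m hm c => ?_) b)
  haveI := hp
  let κ := p.ResidueField
  let iL : DA R M →ₐ[R] DA R M ⊗[R] B := Algebra.TensorProduct.includeLeft
  let iR : B →ₐ[R] DA R M ⊗[R] B := Algebra.TensorProduct.includeRight
  obtain ⟨T, _, _, π, hπ, io, hio⟩ : ∃ (T : Type u) (_ : CommRing T) (_ : Algebra R T) (π : DA R M ⊗[R] B →ₐ[R] T),
      (∀ z, π z = 0 → (1 : κ) ⊗ₜ[R] z = 0) ∧ ∃ io : κ →+* T, io.comp (algebraMap R κ) = algebraMap R T :=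
    ⟨κ ⊗[R] (DA R M ⊗[R] B), inferInstance, inferInstance, Algebra.TensorProduct.includeRight, fun z hz => hz,
      Algebra.TensorProduct.includeLeftRingHom, RingHom.ext fun r => (Algebra.TensorProduct.algebraMap_apply r).symm⟩
  have h1 : lift (pt (π.comp iL) ≫ w.hom) (pt (π.comp iR) ≫ v.hom) ≫ a.act = pt (π.comp iR) ≫ v.hom := by
    refine h0 κ (Spec.map (CommRingCat.ofHom (algebraMap R κ))) _ _ _ (Spec.map (CommRingCat.ofHom io)) ?_
    exact (Spec.map_comp _ _).symm.trans (congrArg (fun f => Spec.map (CommRingCat.ofHom f)) hio)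
  have h2 : (pr (π.comp iL) (π.comp iR)).comp ρ = π.comp iR := by
    apply pt_injective
    rw [← cancel_mono v.hom, ← hpt, h1]
  have e2 : pr (π.comp iL) (π.comp iR) = π :=
    Algebra.TensorProduct.ext (AlgHom.ext fun a => by simp [pr, iL]) (AlgHom.ext fun a => by simp [pr, iR])
  rw [e2] at h2
  have h3 := hπ (ρ c - iR c) (by rw [map_sub, sub_eq_zero]; exact DFunLike.congr_fun h2 c)
  let L : DA R M ⊗[R] B →ₗ[R] B :=
    (TensorProduct.lid R B).toLinearMap ∘ₗ LinearMap.rTensor B ((bas R M).coord m)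
  have h4 : L (ρ c - iR c) = co ρ m c := by
    have hb1 : bas R M 1 = (1 : DA R M) := by rw [bas_apply, ← MonoidAlgebra.one_def]
    rw [map_sub, Algebra.TensorProduct.includeRight_apply, ← hb1]
    simp [L, co_apply, hm.symm]
  have h5 := congrArg (L.lTensor κ) h3
  rw [LinearMap.lTensor_tmul, map_zero, h4] at h5
  exact exists_smul_mem p _ h5

/-- The split case. -/
theorem act_eq_snd_split {R : Type u} [CommRing R] {M : Type} [AddCommGroup M]
    {G X : Over (Spec (CommRingCat.of R))} [GrpObj G] (w : sp R (DA R M) ≅ G) [IsMonHom w.hom]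
    [LocallyOfFiniteType X.hom] (a : AlgGrp.Action G X) (h0 : TrivField a) : a.act = snd G X := by
  have htop : ∀ z : (G ⊗ X).left, a.act.left z = (snd G X).left z := by
    intro z
    let K : Type u := (G ⊗ X).left.residueField z
    let Y : Over (Spec (CommRingCat.of R)) := Over.mk ((G ⊗ X).left.fromSpecResidueField z ≫ (G ⊗ X).hom)
    let ζ : Y ⟶ G ⊗ X := Over.homMk ((G ⊗ X).left.fromSpecResidueField z)
    have h1 := h0 K ((G ⊗ X).left.fromSpecResidueField z ≫ (G ⊗ X).hom) Y (ζ ≫ fst G X) (ζ ≫ snd G X) (𝟙 _)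
      (Category.id_comp _)
    rw [← comp_lift, lift_fst_snd, Category.comp_id] at h1
    obtain ⟨pt⟩ : Nonempty (Spec ((G ⊗ X).left.residueField z)) :=
      ⟨IsLocalRing.closedPoint ((G ⊗ X).left.residueField z)⟩
    have hz : ζ.left pt = z := Scheme.fromSpecResidueField_apply z pt
    rw [← hz, ← Scheme.Hom.comp_apply, ← Scheme.Hom.comp_apply, ← Over.comp_left, ← Over.comp_left, h1]
  -- restrict to affine opens
  refine Over.OverMorphism.ext (Scheme.Cover.hom_ext (X.left.affineCover.pullback₁ (snd G X).left) _ _ fun k => ?_)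
  let j : Over.mk (X.left.affineCover.f k ≫ X.hom) ⟶ X := Over.homMk (X.left.affineCover.f k)
  haveI : IsOpenImmersion j.left := inferInstanceAs (IsOpenImmersion (X.left.affineCover.f k))
  haveI : Mono j := Over.mono_of_mono_left j
  let U := Over.mk (X.left.affineCover.f k ≫ X.hom)
  have hr : Set.range ((G ◁ j) ≫ a.act).left ⊆ Set.range j.left := by
    rintro _ ⟨z, rfl⟩
    refine ⟨(snd G U).left z, ?_⟩
    rw [Over.comp_left, Scheme.Hom.comp_apply, htop, ← Scheme.Hom.comp_apply, ← Scheme.Hom.comp_apply,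
      ← Over.comp_left, ← Over.comp_left, whiskerLeft_snd]
  let act' : G ⊗ U ⟶ U := Over.homMk (IsOpenImmersion.lift j.left ((G ◁ j) ≫ a.act).left hr) (by
    rw [← Over.w j, IsOpenImmersion.lift_fac_assoc, Over.w])
  have hact' : act' ≫ j = (G ◁ j) ≫ a.act := Over.OverMorphism.ext (IsOpenImmersion.lift_fac _ _ _)
  let a' : AlgGrp.Action G U :=
    { act := act'
      one_act := by
        rw [← cancel_mono j, Category.assoc, hact', ← whisker_exchange_assoc, a.one_act]
        exact leftUnitor_naturality j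
      mul_act := by
        rw [← cancel_mono j, Category.assoc, hact', ← whisker_exchange_assoc, a.mul_act, Category.assoc,
          Category.assoc, hact', ← MonoidalCategory.whiskerLeft_comp_assoc, hact',
          MonoidalCategory.whiskerLeft_comp_assoc, associator_naturality_right_assoc] }
  have h0' : TrivField a' := fun K _ κ Y g x q hq => by
    have := h0 K κ Y g (x ≫ j) q hq
    rw [← cancel_mono j, Category.assoc]
    show lift g x ≫ act' ≫ j = x ≫ j
    rw [hact', lift_whiskerLeft_assoc]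
    exact this
  haveI : IsAffine U.left := inferInstanceAs (IsAffine (X.left.affineCover.X k))
  haveI : LocallyOfFiniteType U.hom := inferInstanceAs (LocallyOfFiniteType (X.left.affineCover.f k ≫ X.hom))
  have hU : act' = snd G U := act_eq_snd_affine w a' h0'
  let pc : pullback (snd G X).left (X.left.affineCover.f k) ⟶ (G ⊗ X).left := pullback.fst _ _
  let κ : Over.mk (pc ≫ (G ⊗ X).hom) ⟶ G ⊗ X := Over.homMk pc
  let x : Over.mk (pc ≫ (G ⊗ X).hom) ⟶ U := Over.homMk (pullback.snd _ _) (by
    show pullback.snd _ _ ≫ X.left.affineCover.f k ≫ X.hom = pc ≫ (G ⊗ X).hom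
    rw [← pullback.condition_assoc, Over.w (snd G X)])
  have hκ : lift (κ ≫ fst G X) x ≫ (G ◁ j) = κ := by
    rw [lift_whiskerLeft]
    refine CartesianMonoidalCategory.hom_ext _ _ (lift_fst _ _) ?_
    rw [lift_snd]
    exact Over.OverMorphism.ext pullback.condition.symm
  have h5 : κ ≫ a.act = κ ≫ snd G X := by
    rw [← hκ, Category.assoc, Category.assoc, ← hact', hU, whiskerLeft_snd]
  exact congrArg CommaMorphism.left h5

variable {S : Scheme.{u}}

theorem trivField_bc {G X : Over S} [GrpObj G] {a : AlgGrp.Action G X} (h0 : TrivField a) {T : Scheme.{u}}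
    (p : T ⟶ S) : TrivField (a.bc p) := by
  intro K _ κ Y g x q hq
  obtain ⟨g₀, rfl⟩ := ((Over.mapPullbackAdj p).homEquiv Y G).surjective g
  obtain ⟨x₀, rfl⟩ := ((Over.mapPullbackAdj p).homEquiv Y X).surjective x
  rw [AlgGrp.Action.lift_homEquiv_bc_act,
    h0 K (κ ≫ p) _ g₀ x₀ q (by rw [reassoc_of% hq]; rfl)]

/-- Actions of groups of multiplicative type on schemes locally of finite type trivial on every fibre are trivial. -/
theorem act_eq_snd {G X : Over S} [GrpObj G] [LocallyOfFiniteType X.hom]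
    (hG : ∃ (S' : Scheme.{u}) (f : S' ⟶ S), Flat f ∧ Surjective f ∧
      ∀ s' : S', ∃ U : S'.Opens, s' ∈ U ∧ ∃ (M : Type) (_ : AddCommGroup M),
        Nonempty (Grp.mk (Red.bc (U.ι ≫ f) G) ≅ Grp.mk (Red.DS (U : Scheme.{u}) M)))
    (a : AlgGrp.Action G X) (h0 : TrivField a) : a.act = snd G X := by
  obtain ⟨S', f, hflat, hsurj, hloc⟩ := hG
  haveI := hflat
  haveI := hsurj
  haveI : Epi (pullback.fst (G ⊗ X).hom f) := Flat.epi_of_flat_of_surjective _
  refine Over.OverMorphism.ext ?_
  rw [← cancel_epi (pullback.fst (G ⊗ X).hom f)]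
  choose U hxU M _ hiso using hloc
  have hex : ∀ x : S', ∃ T : S'.Opens, IsAffineOpen T ∧ x ∈ T ∧ T ≤ U x := fun x =>
    exists_isAffineOpen_mem_and_subset (X := S') (x := x) (hxU x)
  choose T hTaff hxT hTU using hex
  let 𝒰 := S'.openCoverOfIsOpenCover T (TopologicalSpace.Opens.ext
    (Set.eq_univ_of_forall fun y => by
      simp only [TopologicalSpace.Opens.coe_iSup, Set.mem_iUnion]
      exact ⟨y, hxT y⟩))
  refine Scheme.Cover.hom_ext (𝒰.pullback₁ (pullback.snd (G ⊗ X).hom f)) _ _ fun (x : S') => ?_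
  haveI : IsAffine (T x : Scheme.{u}) := hTaff x
  let R : Type u := Γ((T x : Scheme.{u}), ⊤)
  let i : Spec (CommRingCat.of R) ⟶ (T x : Scheme.{u}) := (T x : Scheme.{u}).isoSpec.inv
  obtain ⟨e⟩ := hiso x
  let j : Spec (CommRingCat.of R) ⟶ (U x : Scheme.{u}) := i ≫ S'.homOfLE (hTU x)
  let p : Spec (CommRingCat.of R) ⟶ S := j ≫ (U x).ι ≫ f
  have hp : p = i ≫ (T x).ι ≫ f := by simp only [p, j, Category.assoc, Scheme.homOfLE_ι_assoc]
  obtain ⟨w, hw⟩ := MultLift.exists_split_iso e j p rfl
  haveI := hw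
  haveI : LocallyOfFiniteType (Red.bc p X).hom :=
    inferInstanceAs (LocallyOfFiniteType (pullback.snd X.hom p))
  have h6 := act_eq_snd_split w (a.bc p) (trivField_bc h0 p)
  rw [AlgGrp.Action.bc_act, ← Functor.Monoidal.μ_snd (Over.pullback p) G X, cancel_epi] at h6
  have h7 : pullback.fst (G ⊗ X).hom p ≫ a.act.left = pullback.fst (G ⊗ X).hom p ≫ (snd G X).left := by
    have := congrArg (fun m => m.left ≫ pullback.fst X.hom p) h6
    simpa [pullback.lift_fst] using this
  let pc : pullback (pullback.snd (G ⊗ X).hom f) (T x).ι ⟶ pullback (G ⊗ X).hom f := pullback.fst _ _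
  let l : pullback (pullback.snd (G ⊗ X).hom f) (T x).ι ⟶ pullback (G ⊗ X).hom p :=
    pullback.lift (pc ≫ pullback.fst _ _) (pullback.snd _ _ ≫ (T x : Scheme.{u}).isoSpec.hom) (by
      rw [Category.assoc, pullback.condition, pullback.condition_assoc, Category.assoc, hp]
      simp [i])
  show pc ≫ pullback.fst _ _ ≫ a.act.left = pc ≫ pullback.fst _ _ ≫ (snd G X).left
  have hl : l ≫ pullback.fst _ p = pc ≫ pullback.fst _ _ := pullback.lift_fst _ _ _
  rw [← reassoc_of% hl, ← reassoc_of% hl, h7]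

end Groth.Agent.FibTriv
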