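import Groth.Agent.FreeActLib.Algebra

/-!
Gradings of algebras of finite type which vanish on all fibres.
-/

set_option autoImplicit false

noncomputable section

universe u

open TensorProduct

namespace Groth.Agent.FreeAct

variable {R : Type u} [CommRing R] {B : Type u} [CommRing B] [Algebra R B] {M : Type} [AddCommGroup M]
  {ρ : B →ₐ[R] DA R M ⊗[R] B}

theorem IsAct.co_co (h : IsAct ρ) (m : Multiplicative M) (b : B) : co ρ m (co ρ m b) = co ρ m b := by
  classical
  rw [co_of_weight (h.rho_co m b), if_pos rfl]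

theorem co_mul_of_fixed {a b : B} (h : IsAct ρ) (ha : ρ a = 1 ⊗ₜ[R] a) (m : Multiplicative M) :
    co ρ m (a * co ρ m b) = a * co ρ m b := by
  classical
  have ha' : ρ a = bas R M 1 ⊗ₜ[R] a := by rw [ha, bas_apply, MonoidAlgebra.one_def]
  have := rho_mul ha' (h.rho_co m b)
  rw [one_mul] at this
  rw [co_of_weight this, if_pos rfl]

/-- The invariants. -/
def inv₀ (ρ : B →ₐ[R] DA R M ⊗[R] B) : Subalgebra R B :=
  AlgHom.equalizer ρ Algebra.TensorProduct.includeRight

theorem mem_inv₀ {b : B} : b ∈ inv₀ ρ ↔ ρ b = 1 ⊗ₜ[R] b := Iff.rfl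

/-- The elements of a given weight, over the invariants. -/
def wt (h : IsAct ρ) (m : Multiplicative M) : Submodule (inv₀ ρ) B where
  carrier := {b | co ρ m b = b}
  add_mem' {a b} (ha : co ρ m a = a) (hb : co ρ m b = b) := show co ρ m (a + b) = a + b by rw [map_add, ha, hb]
  zero_mem' := map_zero _
  smul_mem' a b (hb : co ρ m b = b) := by
    show co ρ m ((a : B) * b) = (a : B) * b
    rw [← hb]
    exact co_mul_of_fixed h (mem_inv₀.1 a.2) m

theorem mem_wt {h : IsAct ρ} {m : Multiplicative M} {b : B} : b ∈ wt h m ↔ co ρ m b = b := Iff.rfl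

theorem IsAct.exists_homogeneous_generators (h : IsAct ρ) [Algebra.FiniteType R B] :
    ∃ (n : ℕ) (g : Fin n → B) (w : Fin n → Multiplicative M),
      (∀ i, ρ (g i) = bas R M (w i) ⊗ₜ[R] g i) ∧ Algebra.adjoin R (Set.range g) = ⊤ := by
  classical
  obtain ⟨s, hs⟩ := (inferInstance : Algebra.FiniteType R B).out
  choose F hF using fun b : B => h.exists_sum_co b
  let T : Finset (Multiplicative M × B) := s.biUnion fun b => (F b).image fun m => (m, co ρ m b)
  let e := T.equivFin
  refine ⟨T.card, fun i => (e.symm i).1.2, fun i => (e.symm i).1.1, fun i => ?_, ?_⟩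
  · obtain ⟨b, -, hb⟩ := Finset.mem_biUnion.1 (e.symm i).2
    obtain ⟨m, -, hm⟩ := Finset.mem_image.1 hb
    show ρ (e.symm i).1.2 = bas R M (e.symm i).1.1 ⊗ₜ[R] (e.symm i).1.2
    rw [← hm]
    exact h.rho_co m b
  · rw [eq_top_iff, ← hs]
    refine Algebra.adjoin_le fun b hb => ?_
    rw [SetLike.mem_coe, ← hF b]
    refine sum_mem fun m hm => Algebra.subset_adjoin ?_
    refine ⟨e ⟨(m, co ρ m b), Finset.mem_biUnion.2 ⟨b, hb, Finset.mem_image.2 ⟨m, hm, rfl⟩⟩⟩, ?_⟩
    simp

theorem IsAct.wt_fg (h : IsAct ρ) [Algebra.FiniteType R B] (m : Multiplicative M) : (wt h m).FG := by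
  classical
  obtain ⟨n, g, w, hg, hgen⟩ := h.exists_homogeneous_generators
  let mon : (Fin n → ℕ) → B := fun e => ∏ i, g i ^ e i
  let wgt : (Fin n → ℕ) → Multiplicative M := fun e => ∏ i, w i ^ e i
  have hadd : ∀ e e', mon (e + e') = mon e * mon e' := fun e e' => by
    simp [mon, pow_add, Finset.prod_mul_distrib]
  have hwadd : ∀ e e', wgt (e + e') = wgt e * wgt e' := fun e e' => by
    simp [wgt, pow_add, Finset.prod_mul_distrib]
  have hρ : ∀ e, ρ (mon e) = bas R M (wgt e) ⊗ₜ[R] mon e := by
    intro e
    have h1 : ∀ (i : Fin n) (k : ℕ), ρ (g i ^ k) = bas R M (w i ^ k) ⊗ₜ[R] (g i ^ k) := by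
      intro i k
      induction k with
      | zero => simp [bas_apply, ← MonoidAlgebra.one_def, ← Algebra.TensorProduct.one_def]
      | succ k ih => rw [pow_succ, pow_succ]; exact rho_mul ih (hg i)
    simp only [mon, wgt]
    induction (Finset.univ : Finset (Fin n)) using Finset.induction with
    | empty => simp [bas_apply, ← MonoidAlgebra.one_def, ← Algebra.TensorProduct.one_def]
    | insert a t ha ih =>
      rw [Finset.prod_insert ha, Finset.prod_insert ha]
      exact rho_mul (h1 a (e a)) ih
  -- minimal exponents of weight `m`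
  let S : Set (Fin n → ℕ) := {e | wgt e = m}
  have hfin : {e | Minimal (· ∈ S) e}.Finite :=
    WellQuasiOrderedLE.finite_of_isAntichain (setOf_minimal_antichain (· ∈ S))
  refine ⟨hfin.toFinset.image mon, le_antisymm ?_ ?_⟩
  · rw [Submodule.span_le]
    intro b hb
    obtain ⟨e, he, rfl⟩ := Finset.mem_image.1 (Finset.mem_coe.1 hb)
    rw [Set.Finite.mem_toFinset] at he
    show co ρ m (mon e) = mon e
    rw [co_of_weight (hρ e), if_pos (show wgt e = m from he.1)]
  · intro b hb
    -- every element is a combination of monomials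
    have hspan : b ∈ Submodule.span R (Set.range mon) := by
      have h2 : b ∈ Algebra.adjoin R (Set.range g) := by rw [hgen]; trivial
      rw [← Subalgebra.mem_toSubmodule, Algebra.adjoin_eq_span] at h2
      refine Submodule.span_mono ?_ h2
      intro x hx
      induction hx using Submonoid.closure_induction with
      | mem x hx =>
        obtain ⟨i, rfl⟩ := hx
        refine ⟨Pi.single i 1, ?_⟩
        simp only [mon]
        rw [Finset.prod_eq_single i (fun j _ hj => by simp [hj]) (by simp)]
        simp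
      | one => exact ⟨0, by simp [mon]⟩
      | mul x y _ _ hx hy =>
        obtain ⟨e, rfl⟩ := hx
        obtain ⟨e', rfl⟩ := hy
        exact ⟨e + e', hadd e e'⟩
    have hco : ∀ x ∈ Submodule.span R (Set.range mon),
        co ρ m x ∈ Submodule.span (inv₀ ρ) ((hfin.toFinset.image mon : Finset B) : Set B) := by
      intro x hx
      induction hx using Submodule.span_induction with
      | mem x hx =>
        obtain ⟨e, rfl⟩ := hx
        rw [co_of_weight (hρ e)]
        split_ifs with hw
        · obtain ⟨e₀, he₀, hmin⟩ := exists_minimal_le_of_wellFoundedLT (· ∈ S) e hw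
          obtain ⟨d, rfl⟩ := exists_add_of_le he₀
          have hd : wgt d = 1 := by
            have : wgt (e₀ + d) = m := hw
            rw [hwadd, show wgt e₀ = m from hmin.1] at this
            exact mul_eq_left.1 this
          have hdinv : mon d ∈ inv₀ ρ := by
            rw [mem_inv₀, hρ, hd, bas_apply, ← MonoidAlgebra.one_def]
          have e1 : mon (e₀ + d) = (⟨mon d, hdinv⟩ : inv₀ ρ) • mon e₀ := by
            rw [hadd, mul_comm]; rfl
          rw [e1]
          exact Submodule.smul_mem _ _ (Submodule.subset_span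
            (Finset.mem_coe.2 (Finset.mem_image.2 ⟨e₀, hfin.mem_toFinset.2 hmin, rfl⟩)))
        · exact zero_mem _
      | zero => rw [map_zero]; exact zero_mem _
      | add x y _ _ hx hy => rw [map_add]; exact add_mem hx hy
      | smul r x _ hx =>
        rw [map_smul, ← algebraMap_smul (inv₀ ρ) r (co ρ m x)]
        exact Submodule.smul_mem _ _ hx
    have := hco b hspan
    rwa [mem_wt.1 hb] at this

/-- A coaction trivial on every fibre is trivial, for algebras of finite type. -/
theorem IsAct.eq_one_tmul_of_fibres (h : IsAct ρ) [Algebra.FiniteType R B]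
    (h0 : ∀ (p : Ideal R), p.IsPrime → ∀ (m : Multiplicative M), m ≠ 1 → ∀ b,
      ∃ s ∉ p, s • co ρ m b ∈ p • (⊤ : Submodule R B)) (b : B) : ρ b = 1 ⊗ₜ[R] b := by
  classical
  have hm : ∀ m : Multiplicative M, m ≠ 1 → wt h m = ⊥ := by
    intro m hm
    let N := wt h m
    have hann : N.annihilator = ⊤ := by
      by_contra hne
      obtain ⟨q, hq, hNq⟩ := Ideal.exists_le_maximal _ hne
      let p := q.comap (algebraMap R (inv₀ ρ))
      have hle : N ≤ q • N := by
        intro x hx
        obtain ⟨s, hs, hsx⟩ := h0 p inferInstance m hm x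
        rw [mem_wt.1 hx] at hsx
        have h1 : (algebraMap R (inv₀ ρ) s) • x ∈ q • N := by
          rw [algebraMap_smul]
          have h2 : co ρ m (s • x) = s • x := by rw [map_smul, mem_wt.1 hx]
          rw [← h2]
          refine Submodule.smul_induction_on (p := fun z => co ρ m z ∈ q • N) hsx ?_ ?_
          · intro r hr z _
            rw [map_smul, ← algebraMap_smul (inv₀ ρ) r (co ρ m z)]
            exact Submodule.smul_mem_smul hr (mem_wt.2 (h.co_co m z))
          · intro y z hy hz
            rw [map_add]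
            exact add_mem hy hz
        obtain ⟨a, t, ht, hat⟩ := hq.exists_inv (show algebraMap R (inv₀ ρ) s ∉ q from hs)
        rw [← one_smul (inv₀ ρ) x, ← hat, add_smul, mul_smul]
        exact add_mem (Submodule.smul_mem _ a h1) (Submodule.smul_mem_smul ht hx)
      obtain ⟨r, hr, hr0⟩ := Submodule.exists_sub_one_mem_and_smul_eq_zero_of_fg_of_le_smul q N (h.wt_fg m) hle
      refine hq.ne_top ((Ideal.eq_top_iff_one _).2 ?_)
      have h3 : r ∈ q := hNq (Submodule.mem_annihilator.2 hr0)
      simpa using sub_mem h3 hr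
    rwa [Submodule.annihilator_eq_top_iff] at hann
  have hco : ∀ m : Multiplicative M, m ≠ 1 → ∀ c, co ρ m c = 0 := fun m hne c => by
    have h4 : co ρ m c ∈ wt h m := mem_wt.2 (h.co_co m c)
    rw [hm m hne] at h4
    exact h4
  obtain ⟨F, hF⟩ := exists_finset_co (ρ := ρ) b
  have h1 := hF (insert 1 F) (Finset.subset_insert _ _)
  rw [Finset.sum_eq_single (1 : Multiplicative M) (fun m _ hne => by rw [hco m hne]; simp) (by simp)] at h1
  have h2 := h.unit b
  rw [h1] at h2
  have hb1 : bas R M 1 = (1 : DA R M) := by rw [bas_apply, ← MonoidAlgebra.one_def]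
  rw [hb1] at h1 h2
  simp only [LinearMap.rTensor_tmul, TensorProduct.lid_tmul, Bialgebra.counit_one, one_smul] at h2
  rwa [h2] at h1

end Groth.Agent.FreeAct
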